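import Cfsg.Agent.Lib.Lie.InvFixity.Count

/-!
# Involutions whose centralizers have constant fixity: elementary consequences
-/

set_option autoImplicit false
set_option linter.unusedSectionVars false
set_option linter.style.haveILetI false

open MulAction

namespace Cfsg.Agent.Lie.InvFixity

universe u v

variable {G : Type u} {Ω : Type v} [Group G] [MulAction G Ω] [Finite Ω] [Finite G] {t : G} {i : ℕ}

theorem inv_of_sq {s : G} (h : s * s = 1) : s⁻¹ = s := inv_eq_of_mul_eq_one_right h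

theorem commute_of_sq {s r : G} (hs : s * s = 1) (hr : r * r = 1) (h : (s * r) * (s * r) = 1) :
    Commute s r := by
  show s * r = r * s
  calc s * r = (s * r)⁻¹ := (inv_of_sq h).symm
    _ = r * s := by rw [mul_inv_rev, inv_of_sq hs, inv_of_sq hr]

theorem Ctx.exists_map (h : Ctx G Ω t i) {a b x y : Ω} (hab : a ≠ b) (hxy : x ≠ y) :
    ∃ g : G, g • a = x ∧ g • b = y := is_two_pretransitive_iff.1 h.trans hab hxy

theorem Ctx.swap_isConj (h : Ctx G Ω t i) {g : G} {x y : Ω} (hxy : x ≠ y) (h1 : g • x = y)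
    (h2 : g • y = x) : IsConj t g := h.count.2 g x y hxy h1 h2

theorem Ctx.sq_of_isConj (h : Ctx G Ω t i) {g : G} (hg : IsConj t g) : g * g = 1 ∧ g ≠ 1 := by
  obtain ⟨z, rfl⟩ := isConj_iff.1 hg
  refine ⟨?_, fun e => h.ne ?_⟩
  · calc z * t * z⁻¹ * (z * t * z⁻¹) = z * (t * t) * z⁻¹ := by group
      _ = 1 := by rw [h.sq]; group
  · rwa [mul_inv_eq_one, mul_eq_left] at e

theorem Ctx.swap_sq (h : Ctx G Ω t i) {g : G} {x y : Ω} (hxy : x ≠ y) (h1 : g • x = y)
    (h2 : g • y = x) : g * g = 1 := (h.sq_of_isConj (h.swap_isConj hxy h1 h2)).1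

theorem Ctx.invol_isConj (h : Ctx G Ω t i) {s : G} (hs1 : s ≠ 1) (hs : s * s = 1) : IsConj t s := by
  haveI := h.faithful
  obtain ⟨x, hx⟩ := exists_moved (Ω := Ω) hs1
  exact h.swap_isConj (Ne.symm hx) rfl (by rw [smul_smul, hs, one_smul])

theorem Ctx.invol_fix (h : Ctx G Ω t i) {s : G} (hs1 : s ≠ 1) (hs : s * s = 1) : nfix Ω s = i := by
  obtain ⟨z, rfl⟩ := isConj_iff.1 (h.invol_isConj hs1 hs)
  rw [nfix_conj, h.fix]

theorem Ctx.cent_fix (h : Ctx G Ω t i) {s g : G} (hs1 : s ≠ 1) (hs : s * s = 1) (hc : Commute g s)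
    (hg : g ≠ 1) : nfix Ω g = i := by
  obtain ⟨z, rfl⟩ := isConj_iff.1 (h.invol_isConj hs1 hs)
  have he : g = z * (z⁻¹ * g * z) * z⁻¹ := by group
  rw [he, nfix_conj]
  refine h.cent _ ?_ fun e => hg ?_
  · show z⁻¹ * g * z * t = t * (z⁻¹ * g * z)
    calc z⁻¹ * g * z * t = z⁻¹ * (g * (z * t * z⁻¹)) * z := by group
      _ = z⁻¹ * ((z * t * z⁻¹) * g) * z := by rw [hc.eq]
      _ = t * (z⁻¹ * g * z) := by group
  · rw [he, e]; group

theorem Ctx.card_cent (h : Ctx G Ω t i) {s : G} (hs1 : s ≠ 1) (hs : s * s = 1) :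
    Nat.card (Subgroup.centralizer ({s} : Set G)) + i = Nat.card Ω := by
  have hi := (h.count).1
  obtain ⟨z, rfl⟩ := isConj_iff.1 (h.invol_isConj hs1 hs)
  rw [← hi]
  congr 1
  refine Nat.card_congr ((MulAut.conj z).symm.toEquiv.subtypeEquiv fun g => ?_)
  show g ∈ Subgroup.centralizer _ ↔ z⁻¹ * g * z ∈ Subgroup.centralizer _
  rw [Subgroup.mem_centralizer_singleton_iff, Subgroup.mem_centralizer_singleton_iff]
  constructor <;> intro e
  · calc z⁻¹ * g * z * t = z⁻¹ * (g * (z * t * z⁻¹)) * z := by group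
      _ = z⁻¹ * ((z * t * z⁻¹) * g) * z := by rw [e]
      _ = t * (z⁻¹ * g * z) := by group
  · calc g * (z * t * z⁻¹) = z * ((z⁻¹ * g * z) * t) * z⁻¹ := by group
      _ = z * (t * (z⁻¹ * g * z)) * z⁻¹ := by rw [e]
      _ = z * t * z⁻¹ * g := by group

/-- An element of even order and the involution it powers have the same fixed points. -/
theorem Ctx.fix_eq_of_pow (h : Ctx G Ω t i) {g : G} {k : ℕ} (hk : g ^ k ≠ 1)
    (hk2 : g ^ k * g ^ k = 1) {x : Ω} : g • x = x ↔ (g ^ k) • x = x := by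
  have hg : g ≠ 1 := fun e => hk (by rw [e, one_pow])
  have hsub : {y : Ω | g • y = y} ⊆ {y : Ω | (g ^ k) • y = y} := fun y hy => by
    show (g ^ k) • y = y
    exact mem_stabilizer_iff.1 (pow_mem (mem_stabilizer_iff.2 hy) k)
  have e : {y : Ω | g • y = y} = {y : Ω | (g ^ k) • y = y} := by
    refine Set.eq_of_subset_of_ncard_le hsub ?_ (Set.toFinite _)
    rw [← Nat.card_coe_set_eq, ← Nat.card_coe_set_eq]
    exact le_of_eq ((h.invol_fix hk hk2).trans
      (h.cent_fix hk hk2 ((Commute.refl g).pow_right k) hg).symm)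
  exact ⟨fun hx => hsub hx, fun hx => (e.symm ▸ hx : x ∈ {y : Ω | g • y = y})⟩

/-- Odd order elements of an involution centralizer fix the fixed points of the involution. -/
theorem Ctx.odd_cent_fix (h : Ctx G Ω t i) {s y : G} (hs1 : s ≠ 1) (hs : s * s = 1)
    (hc : Commute y s) (ho : Odd (orderOf y)) {x : Ω} (hx : s • x = x) : y • x = x := by
  obtain ⟨j, hj⟩ := ho
  have e : (s * y) ^ orderOf y = s := by
    rw [hc.symm.mul_pow, pow_orderOf_eq_one, mul_one, hj, pow_succ, pow_mul, pow_two, hs, one_pow, one_mul]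
  have h1 := (h.fix_eq_of_pow (g := s * y) (k := orderOf y) (by rw [e]; exact hs1) (by rw [e]; exact hs)
    (x := x)).2 (by rw [e]; exact hx)
  calc y • x = (s * (s * y)) • x := by rw [← mul_assoc, hs, one_mul]
    _ = x := by rw [mul_smul, h1, hx]

/-- An element interchanging two points inverts their common stabiliser. -/
theorem Ctx.swap_inverts (h : Ctx G Ω t i) {s r : G} {x y : Ω} (hxy : x ≠ y) (h1 : s • x = y)
    (h2 : s • y = x) (hr1 : r • x = x) (hr2 : r • y = y) : s * r * s = r⁻¹ := by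
  have e := h.swap_sq hxy (g := s * r) (by rw [mul_smul, hr1, h1]) (by rw [mul_smul, hr2, h2])
  calc s * r * s = s * r * (s * r) * r⁻¹ := by group
    _ = r⁻¹ := by rw [e, one_mul]

theorem Ctx.exists_swap (h : Ctx G Ω t i) {x y : Ω} (hxy : x ≠ y) :
    ∃ s : G, s • x = y ∧ s • y = x := h.exists_map hxy (Ne.symm hxy)

theorem Ctx.pair_comm (h : Ctx G Ω t i) {x y : Ω} (hxy : x ≠ y) {r r' : G} (a1 : r • x = x)
    (a2 : r • y = y) (b1 : r' • x = x) (b2 : r' • y = y) : Commute r r' := by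
  obtain ⟨s, h1, h2⟩ := h.exists_swap hxy
  have hs := h.swap_sq hxy h1 h2
  have e1 := h.swap_inverts hxy h1 h2 a1 a2
  have e2 := h.swap_inverts hxy h1 h2 b1 b2
  have e3 := h.swap_inverts hxy h1 h2 (r := r * r') (by rw [mul_smul, b1, a1]) (by rw [mul_smul, b2, a2])
  have e : r⁻¹ * r'⁻¹ = r'⁻¹ * r⁻¹ := by
    rw [← mul_inv_rev r r', ← e3, ← e1, ← e2]
    calc s * r * s * (s * r' * s) = s * r * (s * s) * r' * s := by group
      _ = s * (r * r') * s := by rw [hs]; group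
  exact (inv_injective (by rw [mul_inv_rev, mul_inv_rev]; exact e.symm) : r * r' = r' * r)

theorem Ctx.card_pair_eq (h : Ctx G Ω t i) {a b x y : Ω} (hab : a ≠ b) (hxy : x ≠ y) :
    Nat.card ↥(stabilizer G x ⊓ stabilizer G y) = Nat.card ↥(stabilizer G a ⊓ stabilizer G b) := by
  obtain ⟨g, hga, hgb⟩ := h.exists_map hab hxy
  refine (Nat.card_congr ((MulAut.conj g).toEquiv.subtypeEquiv fun r => ?_)).symm
  show r ∈ stabilizer G a ⊓ stabilizer G b ↔ g * r * g⁻¹ ∈ stabilizer G x ⊓ stabilizer G y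
  simp only [Subgroup.mem_inf, mem_stabilizer_iff, mul_smul, ← hga, ← hgb, inv_smul_smul, smul_left_cancel_iff]

end Cfsg.Agent.Lie.InvFixity
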