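import Mathlib
import Cfsg.Agent.Lib.Lie.Zassenhaus
import Cfsg.Agent.Lib.Char.Central

/-!
# Involutions whose centralizers have constant fixity: counting
-/

set_option autoImplicit false
set_option linter.unusedSectionVars false
set_option linter.style.haveILetI false

open MulAction

namespace Cfsg.Agent.Lie.InvFixity

universe u v

variable (G : Type u) (Ω : Type v) [Group G] [MulAction G Ω]

/-- The number of fixed points. -/
noncomputable def nfix {G : Type u} (Ω : Type v) [Group G] [MulAction G Ω] (g : G) : ℕ :=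
  Nat.card {x : Ω // g • x = x}

/-- A doubly transitive group with an involution `t` whose centralizer has constant fixity `i`. -/
structure Ctx (t : G) (i : ℕ) : Prop where
  faithful : FaithfulSMul G Ω
  trans : IsMultiplyPretransitive G Ω 2
  ne : t ≠ 1
  sq : t * t = 1
  fix : nfix Ω t = i
  cent : ∀ g : G, Commute g t → g ≠ 1 → nfix Ω g = i

variable {G Ω}

theorem nfix_conj (g s : G) : nfix Ω (g * s * g⁻¹) = nfix Ω s := by
  refine Nat.card_congr ((MulAction.toPerm g).symm.subtypeEquiv fun x => ?_)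
  simp only [MulAction.toPerm_symm_apply, mul_smul]
  rw [smul_eq_iff_eq_inv_smul]

theorem fixes_conj {g s : G} {x : Ω} (h : s • x = x) : (g * s * g⁻¹) • (g • x) = g • x := by
  rw [mul_smul, mul_smul, inv_smul_smul, h]

theorem exists_moved [FaithfulSMul G Ω] {g : G} (hg : g ≠ 1) : ∃ x : Ω, g • x ≠ x := by
  by_contra h
  push Not at h
  exact hg (eq_of_smul_eq_smul (α := Ω) fun x => by rw [h x, one_smul])

variable [Finite Ω] [Finite G] {t : G} {i : ℕ}

theorem Ctx.lt (h : Ctx G Ω t i) : i < Nat.card Ω := by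
  haveI := h.faithful
  obtain ⟨x, hx⟩ := exists_moved (Ω := Ω) h.ne
  rw [← h.fix]
  exact Finite.card_subtype_lt hx

theorem Ctx.burnside (h : Ctx G Ω t i) :
    Nat.card (Subgroup.centralizer ({t} : Set G)) ∣ Nat.card Ω - i := by
  classical
  haveI := Fintype.ofFinite Ω
  haveI := Fintype.ofFinite G
  set C := Subgroup.centralizer ({t} : Set G) with hC
  haveI := Fintype.ofFinite (Quotient (orbitRel C Ω))
  have hb := MulAction.sum_card_fixedBy_eq_card_orbits_mul_card_group C Ω
  rw [← Finset.add_sum_erase _ _ (Finset.mem_univ (1 : C))] at hb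
  have h1 : Fintype.card (fixedBy Ω (1 : C)) = Nat.card Ω := by
    rw [Nat.card_eq_fintype_card]
    exact Fintype.card_congr (Equiv.subtypeUnivEquiv fun x => one_smul C x)
  have hrest : ∀ g ∈ (Finset.univ : Finset C).erase 1, Fintype.card (fixedBy Ω g) = i := by
    intro g hg
    rw [← h.cent (g : G) (Subgroup.mem_centralizer_singleton_iff.1 g.2)
      fun e => (Finset.mem_erase.1 hg).1 (Subtype.ext e), nfix, Nat.card_eq_fintype_card]
    exact Fintype.card_congr (Equiv.refl _)
  rw [h1, Finset.sum_congr rfl hrest, Finset.sum_const, Finset.card_erase_of_mem (Finset.mem_univ _),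
    Finset.card_univ, smul_eq_mul, ← Nat.card_eq_fintype_card] at hb
  have hcp : 1 ≤ Nat.card C := Nat.card_pos
  have hlt := h.lt
  have e : Nat.card Ω - i + Nat.card C * i =
      Fintype.card (Quotient (orbitRel C Ω)) * Nat.card C := by
    rw [← hb]
    obtain ⟨k, hk⟩ := Nat.exists_eq_add_of_le hcp
    rw [hk, Nat.add_sub_cancel_left, Nat.add_mul, one_mul]
    omega
  exact (Nat.dvd_add_left (dvd_mul_right _ _)).1 (e ▸ dvd_mul_left _ _)

/-- Every element interchanging two points is conjugate to `t`. -/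
theorem Ctx.count (h : Ctx G Ω t i) :
    Nat.card (Subgroup.centralizer ({t} : Set G)) + i = Nat.card Ω ∧
      ∀ (g : G) (x y : Ω), x ≠ y → g • x = y → g • y = x → IsConj t g := by
  classical
  haveI := h.faithful
  have h2 : ∀ {a b c d : Ω}, a ≠ b → c ≠ d → ∃ g : G, g • a = c ∧ g • b = d :=
    fun h1 h3 => is_two_pretransitive_iff.1 h.trans h1 h3
  obtain ⟨a, ha⟩ := exists_moved (Ω := Ω) h.ne
  set b := t • a with hb
  have hab : a ≠ b := Ne.symm ha
  have htb : t • b = a := by rw [hb, smul_smul, h.sq, one_smul]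
  have hti : t⁻¹ = t := inv_eq_of_mul_eq_one_right h.sq
  -- chosen elements moving `(a, b)` to each ordered pair
  have hk : ∀ p : {p : Ω × Ω // p.1 ≠ p.2}, ∃ k : G, k • a = p.1.1 ∧ k • b = p.1.2 := fun p => h2 hab p.2
  choose k hka hkb using hk
  let D := {g : G // IsConj t g}
  have hinv : ∀ g : D, (g : G) * g = 1 := fun g => by
    obtain ⟨z, hz⟩ := isConj_iff.1 g.2
    rw [← hz]
    calc z * t * z⁻¹ * (z * t * z⁻¹) = z * (t * t) * z⁻¹ := by group
      _ = 1 := by rw [h.sq]; group
  let X := Σ g : D, {x : Ω // (g : G) • x ≠ x}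
  let pr : X → {p : Ω × Ω // p.1 ≠ p.2} := fun z => ⟨(z.2.1, (z.1 : G) • z.2.1), fun e => z.2.2 e.symm⟩
  let Φ : X → G := fun z => k (pr z) * (t * ((k (pr z))⁻¹ * (z.1 : G) * k (pr z)))
  have hprop : ∀ z : X, Φ z • a = z.2.1 ∧ Φ z • b = (z.1 : G) • z.2.1 := by
    intro z
    have e1 : (z.1 : G) • ((z.1 : G) • z.2.1) = z.2.1 := by rw [smul_smul, hinv, one_smul]
    have ka := hka (pr z)
    have kb := hkb (pr z)
    change k (pr z) • a = z.2.1 at ka
    change k (pr z) • b = (z.1 : G) • z.2.1 at kb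
    constructor
    · show (k (pr z) * (t * ((k (pr z))⁻¹ * (z.1 : G) * k (pr z)))) • a = _
      simp only [mul_smul]
      rw [ka, inv_smul_eq_iff.2 kb.symm, htb, ka]
    · show (k (pr z) * (t * ((k (pr z))⁻¹ * (z.1 : G) * k (pr z)))) • b = _
      simp only [mul_smul]
      rw [kb, e1, inv_smul_eq_iff.2 ka.symm, ← hb, kb]
  have hinj : Function.Injective Φ := by
    intro z w e
    have hp : pr z = pr w := by
      refine Subtype.ext (Prod.ext ?_ ?_)
      · show z.2.1 = w.2.1
        rw [← (hprop z).1, ← (hprop w).1, e]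
      · show (z.1 : G) • z.2.1 = (w.1 : G) • w.2.1
        rw [← (hprop z).2, ← (hprop w).2, e]
    have e' : k (pr z) * (t * ((k (pr z))⁻¹ * (z.1 : G) * k (pr z))) =
        k (pr z) * (t * ((k (pr z))⁻¹ * (w.1 : G) * k (pr z))) := by
      conv_rhs => rw [hp]
      exact e
    have eg : z.1 = w.1 := Subtype.ext (by simpa using e')
    obtain ⟨gz, xz⟩ := z
    obtain ⟨gw, xw⟩ := w
    obtain rfl : gz = gw := eg
    obtain rfl : xz = xw := Subtype.ext (congrArg (fun p : {p : Ω × Ω // p.1 ≠ p.2} => p.1.1) hp)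
    rfl
  -- the number of such pairs
  have hX : Nat.card X = (Subgroup.centralizer ({t} : Set G)).index * (Nat.card Ω - i) := by
    haveI := Fintype.ofFinite D
    rw [Nat.card_sigma, Finset.sum_congr rfl (g := fun _ : D => Nat.card Ω - i) fun g _ => ?_]
    · rw [Finset.sum_const, Finset.card_univ, smul_eq_mul, ← Nat.card_eq_fintype_card,
        Cfsg.Agent.Char.card_conjClass_eq_index]
    · obtain ⟨z, hz⟩ := isConj_iff.1 g.2
      have hn : nfix Ω (g : G) = i := by rw [← hz, nfix_conj, h.fix]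
      haveI := Fintype.ofFinite Ω
      rw [← hn, nfix, Nat.card_eq_fintype_card, Nat.card_eq_fintype_card, Nat.card_eq_fintype_card,
        Fintype.card_subtype_compl]
  have hG : Nat.card G = (Subgroup.centralizer ({t} : Set G)).index *
      Nat.card (Subgroup.centralizer ({t} : Set G)) := (Subgroup.index_mul_card _).symm
  have hle : Nat.card Ω - i ≤ Nat.card (Subgroup.centralizer ({t} : Set G)) := by
    have := Nat.card_le_card_of_injective Φ hinj
    rw [hX, hG] at this
    exact Nat.le_of_mul_le_mul_left this (Nat.pos_of_ne_zero Subgroup.index_ne_zero_of_finite)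
  have hge := Nat.le_of_dvd (Nat.sub_pos_of_lt h.lt) h.burnside
  have heq : Nat.card Ω - i = Nat.card (Subgroup.centralizer ({t} : Set G)) := le_antisymm hle hge
  refine ⟨by have := h.lt; omega, fun g x y hxy hgx hgy => ?_⟩
  have hbij : Function.Bijective Φ := by
    rw [Nat.bijective_iff_injective_and_card]
    exact ⟨hinj, by rw [hX, hG, heq]⟩
  set p : {p : Ω × Ω // p.1 ≠ p.2} := ⟨(x, y), hxy⟩ with hp
  set hh := k p * (t * ((k p)⁻¹ * g * k p)) with hhd
  have ka : k p • a = x := hka p
  have kb : k p • b = y := hkb p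
  have hha : hh • a = x := by
    simp only [hhd, mul_smul]
    rw [ka, hgx, inv_smul_eq_iff.2 kb.symm, htb, ka]
  have hhb : hh • b = y := by
    simp only [hhd, mul_smul]
    rw [kb, hgy, inv_smul_eq_iff.2 ka.symm, ← hb, kb]
  obtain ⟨z, hz⟩ := hbij.2 hh
  have hpz : pr z = p := by
    refine Subtype.ext (Prod.ext ?_ ?_)
    · show z.2.1 = x
      rw [← (hprop z).1, hz, hha]
    · show (z.1 : G) • z.2.1 = y
      rw [← (hprop z).2, hz, hhb]
  have e : (z.1 : G) = g := by
    have e' : k p * (t * ((k p)⁻¹ * (z.1 : G) * k p)) = hh := by rw [← hpz]; exact hz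
    simpa [hhd] using e'
  exact e ▸ z.1.2

end Cfsg.Agent.Lie.InvFixity
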