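import Cfsg.Agent.Lib.Lie.InvFixity.Small
import Cfsg.Agent.Lib.Perm.Sharp2
import Cfsg.Agent.Lib.Lie.ZassenhausSuzuki.Main
import Cfsg.Agent.Lib.Lie.SuzukiUnique.Main
import Cfsg.Agent.S0344

/-!
# Involutions whose centralizers have constant fixity: the classification
-/

set_option autoImplicit false
set_option linter.unusedSectionVars false
set_option linter.style.haveILetI false

open MulAction

namespace Cfsg.Agent.Lie.InvFixity

universe u v

/-- Simple Zassenhaus groups are `PSL₂` or Suzuki groups, up to isomorphism. -/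
theorem zassenhaus_iso {G : Type u} {Ω : Type v} [Group G] [Finite G] [MulAction G Ω] [Fintype Ω]
    [IsSimpleGroup G] (hZ : Cfsg.IsZassenhausGroup G Ω) :
    (∃ (F : Type) (_ : Field F) (_ : Fintype F), Nonempty (G ≃* Matrix.ProjectiveSpecialLinearGroup (Fin 2) F)) ∨
      Cfsg.Lie.IsoSuzuki G := by
  classical
  obtain ⟨hF, h2, h3, hfix, -⟩ := id hZ
  haveI := hF
  obtain ⟨g₀, hg₀, a, b, hab, -, -⟩ := id hfix
  rcases Nat.even_or_odd (Nat.card ↥(stabilizer G a ⊓ stabilizer G b)) with heven | hodd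
  · obtain ⟨F, iF, iFF, -, hiso⟩ := Cfsg.Agent.S0344.result hZ hab heven
    exact Or.inl ⟨F, iF, iFF, hiso⟩
  set e := Nat.card ↥(stabilizer G a ⊓ stabilizer G b) with he
  obtain ⟨x, hxa, hxb⟩ := Zassenhaus.three_le_card (G := G) hfix hab
  have hthree : 3 ≤ Fintype.card Ω := by
    have h1 : ({a, b, x} : Finset Ω).card = 3 := Finset.card_eq_three.2 ⟨a, b, x, hab, hxa.symm, hxb.symm, rfl⟩
    have := Finset.card_le_univ ({a, b, x} : Finset Ω)
    omega
  obtain ⟨k, hk⟩ := Feit.stab_dvd (G := G) h3 hab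
  obtain ⟨H, -, hle, hcard, honly⟩ := Feit.exists_kernel hZ ⊤ (fun h => hg₀ (by
    have h1 := Subgroup.mem_top g₀
    rw [h, Subgroup.mem_bot] at h1
    exact h1)) hab
  rcases Feit.feit_inequality hZ hab (h := Fintype.card Ω - 1) (by omega) rfl hodd hle hcard honly
    with hsmall | ⟨hp, hna, -⟩
  · left
    by_cases h2e : 2 * e ≤ Fintype.card Ω - 2
    · exact ZassenhausOddHalf.psl_of_half_odd hZ hab hodd (by omega)
    · refine ZassenhausOddHalf.psl_of_sharp_odd hZ hab hodd ?_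
      rw [← he] at hk
      rcases k with _ | _ | k
      · omega
      · omega
      · exfalso
        apply h2e
        rw [hk]
        nlinarith
  · exact Or.inr (SuzukiUnique.iso_suzuki hZ hab H hle hcard honly hp hna)

variable {G : Type u} {Ω : Type v} [Group G] [MulAction G Ω] [Finite Ω] [Finite G] {t : G} {i : ℕ}

theorem Ctx.classify (h : Ctx G Ω t i) :
    (∃ (F : Type) (_ : Field F) (_ : Fintype F), Nonempty (G ≃* Matrix.ProjectiveSpecialLinearGroup (Fin 2) F)) ∨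
    Cfsg.Lie.IsoSuzuki G ∨
    (∃ R : Subgroup G, R.Normal ∧ (∀ x y : Ω, ∃ r ∈ R, r • x = y) ∧ ∀ x : Ω, ∀ r ∈ R, r • x = x → r = 1) := by
  classical
  haveI := h.faithful
  haveI := Fintype.ofFinite Ω
  by_cases hsharp : ∀ a b : Ω, a ≠ b → ∀ g : G, g • a = a → g • b = b → g = 1
  · refine Or.inr (Or.inr ?_)
    obtain ⟨x, hx⟩ := exists_moved (Ω := Ω) h.ne
    haveI : Nontrivial Ω := ⟨⟨t • x, x, hx⟩⟩
    obtain ⟨K, hKn, hKmem, hKt, -, -⟩ := Cfsg.Agent.Perm.sharp2_kernel (G := G) (Ω := Ω) Finite.one_lt_card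
      (fun a b c d hab hcd => h.exists_map hab hcd) hsharp
    refine ⟨K, hKn, hKt, fun y r hr hry => ?_⟩
    rcases (hKmem r).1 hr with h1 | h1
    · exact h1
    · exact absurd hry (h1 y)
  by_cases hreg : ∃ N : Subgroup G, N.Normal ∧ IsPretransitive N Ω ∧ ∀ a : Ω, stabilizer N a = ⊥
  · obtain ⟨N, hNn, hNt, hNr⟩ := hreg
    refine Or.inr (Or.inr ⟨N, hNn, fun x y => ?_, fun x r hr hrx => ?_⟩)
    · obtain ⟨⟨r, hr⟩, hrx⟩ := exists_smul_eq N x y
      exact ⟨r, hr, hrx⟩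
    · have : (⟨r, hr⟩ : N) ∈ stabilizer N x := hrx
      rw [hNr, Subgroup.mem_bot] at this
      exact congrArg Subtype.val this
  push Not at hsharp hreg
  obtain ⟨a, b, hab, g, hga, hgb, hg⟩ := hsharp
  have hZ : Cfsg.IsZassenhausGroup G Ω :=
    ⟨h.faithful, h.trans, h.threePoint, ⟨g, hg, a, b, hab, hga, hgb⟩,
      fun N hN ht => hreg N hN ht⟩
  haveI : Nontrivial G := ⟨⟨g, 1, hg⟩⟩
  haveI : IsSimpleGroup G := ⟨fun N hN => by
    rw [or_iff_not_imp_left]
    intro hne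
    haveI := hN
    have h2N := (Zassenhaus.normal_isZassenhaus hZ N hne).2.1
    have hswap : ∀ {s : G} {x y : Ω}, x ≠ y → s • x = y → s • y = x → s ∈ N := by
      intro s x y hxy h1 h2
      obtain ⟨⟨s', hs'⟩, e1, e2⟩ := is_two_pretransitive_iff.1 h2N hxy hxy.symm
      obtain ⟨z', hz'⟩ := isConj_iff.1 (h.swap_isConj hxy (g := s') e1 e2)
      obtain ⟨z, hz⟩ := isConj_iff.1 (h.swap_isConj hxy h1 h2)
      have e : s = (z * z'⁻¹) * s' * (z * z'⁻¹)⁻¹ := by rw [← hz, ← hz']; group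
      rw [e]
      exact hN.conj_mem s' hs' _
    refine (Subgroup.eq_top_iff' N).2 fun w => ?_
    obtain ⟨⟨n, hn⟩, n1, n2⟩ := is_two_pretransitive_iff.1 h2N hab
      (fun e => hab (smul_left_cancel w e) : w • a ≠ w • b)
    obtain ⟨s, s1, s2⟩ := h.exists_swap hab
    have e3 : (n⁻¹ * w) • a = a := by rw [mul_smul, inv_smul_eq_iff]; exact n1.symm
    have e4 : (n⁻¹ * w) • b = b := by rw [mul_smul, inv_smul_eq_iff]; exact n2.symm
    have hm : s * (n⁻¹ * w) ∈ N := hswap hab (by rw [mul_smul, e3, s1]) (by rw [mul_smul, e4, s2])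
    have := mul_mem hn (mul_mem (inv_mem (hswap hab s1 s2)) hm)
    rwa [inv_mul_cancel_left, mul_inv_cancel_left] at this⟩
  exact (zassenhaus_iso hZ).imp_right Or.inl

end Cfsg.Agent.Lie.InvFixity
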