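import Cfsg.Agent.Lib.Lie.InvFixity.Two

/-!
# Involutions whose centralizers have constant fixity: only the identity fixes three points
-/

set_option autoImplicit false
set_option linter.unusedSectionVars false
set_option linter.style.haveILetI false

open MulAction

namespace Cfsg.Agent.Lie.InvFixity

universe u v

variable {G : Type u} {Ω : Type v} [Group G] [MulAction G Ω] [Finite Ω] [Finite G] {t : G} {i : ℕ}

theorem Ctx.fixes_le_one (h : Ctx G Ω t i) (hi : i ≤ 1) {s : G} (hs1 : s ≠ 1) (hs : s * s = 1) {x y : Ω}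
    (hx : s • x = x) (hy : s • y = y) : x = y := by
  haveI : Subsingleton {w : Ω // s • w = w} :=
    Finite.card_le_one_iff_subsingleton.1 ((h.invol_fix hs1 hs).trans_le hi)
  exact congrArg Subtype.val (Subsingleton.elim (⟨x, hx⟩ : {w : Ω // s • w = w}) ⟨y, hy⟩)

theorem three_le_nfix {g : G} {a b c : Ω} (hab : a ≠ b) (hbc : b ≠ c) (hac : a ≠ c) (ha : g • a = a)
    (hb : g • b = b) (hc : g • c = c) : 3 ≤ nfix Ω g := by
  classical
  have hsub : ({a, b, c} : Set Ω) ⊆ {w : Ω | g • w = w} := by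
    rintro w (rfl | rfl | rfl) <;> assumption
  have h3 : ({a, b, c} : Set Ω).ncard = 3 := Set.ncard_eq_three.2 ⟨a, b, c, hab, hac, hbc, rfl⟩
  have := Set.ncard_le_ncard hsub (Set.toFinite _)
  rw [h3, ← Nat.card_coe_set_eq] at this
  exact this

theorem Ctx.threePoint_two (h : Ctx G Ω t i) (hi : i = 2) : Zassenhaus.ThreePoint G Ω := by
  intro g a b c hab hbc hac ha hb hc
  by_contra hg
  obtain ⟨x, y, hxy, hx, hy⟩ : ∃ x y : Ω, x ≠ y ∧ t • x = x ∧ t • y = y := by
    have hfix := h.fix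
    rw [hi, nfix] at hfix
    obtain ⟨x, y, hxy, -⟩ := Nat.card_eq_two_iff.1 hfix
    exact ⟨x, y, fun e => hxy (Subtype.ext e), x.2, y.2⟩
  obtain ⟨k, hkx, hky⟩ := h.exists_map hxy hab
  obtain ⟨hs, hs1⟩ := h.sq_of_isConj (isConj_iff.2 ⟨k, rfl⟩ : IsConj t (k * t * k⁻¹))
  have e1 : (k * t * k⁻¹) • a = a := hkx ▸ fixes_conj hx
  have e2 : (k * t * k⁻¹) • b = b := hky ▸ fixes_conj hy
  have := h.cent_fix hs1 hs (h.pair_comm hab ha hb e1 e2) hg
  have := three_le_nfix hab hbc hac ha hb hc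
  omega

theorem Ctx.threePoint_le_one (h : Ctx G Ω t i) (hi : i ≤ 1) : Zassenhaus.ThreePoint G Ω := by
  classical
  haveI := h.faithful
  haveI := Fintype.ofFinite Ω
  intro g₀ a₀ b₀ c₀ hab₀ hbc₀ hac₀ ha₀ hb₀ hc₀
  by_contra hg₀
  let T : Ω × Ω × Ω → Subgroup G := fun p => stabilizer G p.1 ⊓ stabilizer G p.2.1 ⊓ stabilizer G p.2.2
  obtain ⟨⟨a, b, c⟩, hmem, hmax⟩ := Finset.exists_max_image
    (Finset.univ.filter fun p : Ω × Ω × Ω => p.1 ≠ p.2.1 ∧ p.2.1 ≠ p.2.2 ∧ p.1 ≠ p.2.2 ∧ T p ≠ ⊥)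
    (fun p => Nat.card (T p))
    ⟨(a₀, b₀, c₀), Finset.mem_filter.2 ⟨Finset.mem_univ _, hab₀, hbc₀, hac₀,
      fun e => hg₀ (Subgroup.mem_bot.1 (e ▸ (⟨⟨ha₀, hb₀⟩, hc₀⟩ : g₀ ∈ T (a₀, b₀, c₀))))⟩⟩
  simp only [Finset.mem_filter, Finset.mem_univ, true_and] at hmem hmax
  obtain ⟨hab, hbc, hac, hBne⟩ := hmem
  set B : Subgroup G := T (a, b, c) with hB
  set Γ : Set Ω := {w | ∀ r ∈ B, r • w = w} with hΓ
  have haΓ : a ∈ Γ := fun r hr => hr.1.1
  have hbΓ : b ∈ Γ := fun r hr => hr.1.2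
  have hcΓ : c ∈ Γ := fun r hr => hr.2
  have hB2 : ∀ r ∈ B, r * r = 1 → r = 1 := fun r hr hrr => by
    by_contra hr1
    exact hab (h.fixes_le_one hi hr1 hrr (haΓ r hr) (hbΓ r hr))
  obtain ⟨r₀, hr₀, hr₀1⟩ := (Subgroup.bot_or_exists_ne_one B).resolve_left hBne
  have hr₀i : r₀⁻¹ ≠ r₀ := fun e => hr₀1 (hB2 r₀ hr₀ (by
    calc r₀ * r₀ = r₀ * r₀⁻¹ := by rw [e]
      _ = 1 := mul_inv_cancel r₀))
  have hthree : ∀ p q r : Ω, p ∈ Γ → q ∈ Γ → r ∈ Γ → p ≠ q → q ≠ r → p ≠ r → ∀ w : G,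
      w • p = p → w • q = q → w • r = r → w ∈ B := by
    intro p q r hp hq hr hpq hqr hpr w w1 w2 w3
    have hle : B ≤ T (p, q, r) := fun s hs => ⟨⟨hp s hs, hq s hs⟩, hr s hs⟩
    have hcard := hmax (p, q, r) ⟨hpq, hqr, hpr, fun e => hBne (le_bot_iff.1 (e ▸ hle))⟩
    rw [Subgroup.eq_of_le_of_card_ge hle hcard]
    exact ⟨⟨w1, w2⟩, w3⟩
  -- elements inverting `B`
  have hinvB : ∀ {w : G} {p q : Ω}, p ∈ Γ → q ∈ Γ → p ≠ q → w • p = q → w • q = p →
      w * w = 1 ∧ (∀ r ∈ B, w * r * w = r⁻¹) ∧ ∀ z ∈ Γ, w • z ∈ Γ := by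
    intro w p q hp hq hpq w1 w2
    have hw := h.swap_sq hpq w1 w2
    have hr : ∀ r ∈ B, w * r * w = r⁻¹ := fun r hr => h.swap_inverts hpq w1 w2 (hp r hr) (hq r hr)
    refine ⟨hw, hr, fun z hz r hrB => ?_⟩
    calc r • w • z = (w * (w * r * w)) • z := by
          rw [smul_smul]
          congr 1
          calc r * w = (w * w) * r * w := by rw [hw, one_mul]
            _ = w * (w * r * w) := by group
      _ = w • z := by rw [hr r hrB, mul_smul, hz r⁻¹ (inv_mem hrB)]
  set K := Subgroup.centralizer (B : Set G) with hK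
  have hKΓ : ∀ k ∈ K, ∀ z ∈ Γ, k • z ∈ Γ := fun k hk z hz r hr => by
    rw [smul_smul, Subgroup.mem_centralizer_iff.1 hk r hr, mul_smul, hz r hr]
  -- `K` is transitive on `Γ`
  have hKtrans : ∀ p ∈ Γ, ∀ q ∈ Γ, ∃ k ∈ K, k • p = q := by
    intro p hp q hq
    by_cases hpq : p = q
    · exact ⟨1, one_mem _, by rw [one_smul, hpq]⟩
    obtain ⟨r, hr, hrp, hrq⟩ : ∃ r ∈ Γ, r ≠ p ∧ r ≠ q := by
      by_cases h1 : a = p ∨ a = q
      · by_cases h2 : b = p ∨ b = q
        · refine ⟨c, hcΓ, fun e => ?_, fun e => ?_⟩ <;>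
            rcases h1 with h1 | h1 <;> rcases h2 with h2 | h2 <;>
            first
            | exact hab (h1.trans h2.symm)
            | exact hac (h1.trans e.symm)
            | exact hbc (h2.trans e.symm)
        · exact ⟨b, hbΓ, not_or.1 h2⟩
      · exact ⟨a, haΓ, not_or.1 h1⟩
    obtain ⟨w1, w1p, w1r⟩ := h.exists_swap hrp.symm
    obtain ⟨w2, w2r, w2q⟩ := h.exists_swap hrq
    obtain ⟨-, i1, -⟩ := hinvB hp hr hrp.symm w1p w1r
    obtain ⟨s2, i2, -⟩ := hinvB hr hq hrq w2r w2q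
    refine ⟨w2 * w1, Subgroup.mem_centralizer_iff.2 fun s hs => ?_, by rw [mul_smul, w1p, w2r]⟩
    have e1 := i1 s hs
    have e2 := i2 s⁻¹ (inv_mem hs)
    rw [inv_inv] at e2
    have hw1 := h.swap_sq hrp.symm w1p w1r
    calc s * (w2 * w1) = w2 * s⁻¹ * w2 * w2 * w1 := by rw [e2]; group
      _ = w2 * s⁻¹ * w1 := by rw [mul_assoc (w2 * s⁻¹) w2 w2, s2, mul_one]
      _ = w2 * (w1 * s * w1) * w1 := by rw [e1]
      _ = w2 * w1 * s * (w1 * w1) := by group
      _ = w2 * w1 * s := by rw [hw1, mul_one]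
  -- `K` has odd order
  have hKodd : Odd (Nat.card K) := by
    rw [← Nat.not_even_iff_odd, even_iff_two_dvd]
    intro h2
    haveI : Fact (Nat.Prime 2) := ⟨Nat.prime_two⟩
    obtain ⟨⟨w, hwK⟩, hwo⟩ := exists_prime_orderOf_dvd_card' 2 h2
    rw [Subgroup.orderOf_mk] at hwo
    have hw1 : w ≠ 1 := fun e => by rw [e, orderOf_one] at hwo; omega
    have hww : w * w = 1 := by rw [← pow_two, ← hwo]; exact pow_orderOf_eq_one w
    obtain ⟨z, hz, hzw⟩ : ∃ z ∈ Γ, w • z ≠ z := by
      by_contra hno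
      push Not at hno
      exact hab (h.fixes_le_one hi hw1 hww (hno a haΓ) (hno b hbΓ))
    obtain ⟨-, hinv, -⟩ := hinvB hz (hKΓ w hwK z hz) (Ne.symm hzw) rfl
      (by rw [smul_smul, hww, one_smul])
    refine hr₀i ?_
    rw [← hinv r₀ hr₀, mul_assoc, (Subgroup.mem_centralizer_iff.1 hwK r₀ hr₀), ← mul_assoc, hww, one_mul]
  -- `Γ` has odd size
  have hΓodd : Odd Γ.ncard := by
    have horb : MulAction.orbit K a = Γ := by
      ext q
      constructor
      · rintro ⟨k, rfl⟩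
        exact hKΓ k k.2 a haΓ
      · intro hq
        obtain ⟨k, hk, hka⟩ := hKtrans a haΓ q hq
        exact ⟨⟨k, hk⟩, hka⟩
    rw [← horb, ← index_stabilizer]
    exact hKodd.of_dvd_nat (Subgroup.index_dvd_card _)
  obtain ⟨u, hua, hub⟩ := h.exists_swap hab
  obtain ⟨huu, hui, huΓ⟩ := hinvB haΓ hbΓ hab hua hub
  have hu1 : u ≠ 1 := fun e => hab (by rw [e, one_smul] at hua; exact hua)
  have hzu : ∀ g ∈ Subgroup.zpowers u, g = 1 ∨ g = u := by
    intro g hg
    obtain ⟨k, rfl⟩ := Subgroup.mem_zpowers_iff.1 hg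
    rcases Int.even_or_odd k with ⟨j, rfl⟩ | ⟨j, rfl⟩
    · left; rw [← two_mul, zpow_mul, zpow_two, huu, one_zpow]
    · right; rw [zpow_add, zpow_mul, zpow_two, huu, one_zpow, one_mul, zpow_one]
  obtain ⟨e, he, hue⟩ := fixed_of_odd (Subgroup.zpowers u) Γ
    (fun g hg z hz => by rcases hzu g hg with rfl | rfl; exacts [by rwa [one_smul], huΓ z hz])
    (fun g hg ho z hz => by
      rcases hzu g hg with rfl | rfl
      · exact one_smul G z
      · rw [orderOf_eq_prime (by rw [pow_two]; exact huu) hu1] at ho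
        exact absurd ho (by decide)) hΓodd
  replace hue : u • e = e := hue u (Subgroup.mem_zpowers u)
  have hea : e ≠ a := fun e' => hab (by rw [← hua, ← e', hue])
  have hi1 : nfix Ω u = 1 := by
    have h1 := h.invol_fix hu1 huu
    have h2 : nfix Ω u ≠ 0 := Nat.card_ne_zero.2 ⟨⟨⟨e, hue⟩⟩, inferInstance⟩
    omega
  set A : Subgroup G := stabilizer G e ⊓ stabilizer G a with hA
  have hBA : B ≤ A := fun r hr => ⟨he r hr, haΓ r hr⟩
  have hAc : ∀ r ∈ A, ∀ s ∈ A, Commute r s := fun r hr s hs => h.pair_comm hea hr.1 hr.2 hs.1 hs.2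
  have hAK : A ≤ K := fun r hr => Subgroup.mem_centralizer_iff.2 fun s hs => (hAc r hr s (hBA hs)).eq.symm
  have heU : ∀ {z : Ω}, u • z = z → z = e := fun hz => h.fixes_le_one hi hu1 huu hz hue
  by_cases hAB : A = B
  · -- the two-point stabiliser is normal in the point stabiliser
    have hCu : ∀ g : G, Commute g u → g • e = e := fun g hg => heU (by rw [smul_smul, ← hg.eq, mul_smul, hue])
    have htr : ∀ q : Ω, q ≠ e → ∃ z : G, Commute z u ∧ z • a = q := by
      let ψ : Subgroup.centralizer ({u} : Set G) → {q : Ω // q ≠ e} := fun z => ⟨(z : G) • a, fun e' =>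
        hea (smul_left_cancel (z : G) ((hCu _ (Subgroup.mem_centralizer_singleton_iff.1 z.2)).trans e'.symm))⟩
      have hinj : Function.Injective ψ := by
        intro z z' hzz
        by_contra hne
        have hw : ((z' : G)⁻¹ * z) • a = a := by
          rw [mul_smul, show (z : G) • a = (z' : G) • a from congrArg Subtype.val hzz, inv_smul_smul]
        have hwC : Commute ((z' : G)⁻¹ * z) u := Subgroup.mem_centralizer_singleton_iff.1 (mul_mem (inv_mem z'.2) z.2)
        have hw1 : (z' : G)⁻¹ * z ≠ 1 := fun e' => hne (Subtype.ext (inv_mul_eq_one.1 e').symm)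
        have hn := h.cent_fix hu1 huu hwC hw1
        have h2 : 2 ≤ nfix Ω ((z' : G)⁻¹ * z) := by
          haveI : Nontrivial {w : Ω // ((z' : G)⁻¹ * z) • w = w} :=
            ⟨⟨⟨e, hCu _ hwC⟩, ⟨a, hw⟩, fun e' => hea (congrArg Subtype.val e')⟩⟩
          exact Finite.one_lt_card
        omega
      have hcard := h.card_cent hu1 huu
      have hi' := (h.invol_fix hu1 huu).symm.trans hi1
      have hbij : Function.Bijective ψ := by
        rw [Nat.bijective_iff_injective_and_card]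
        refine ⟨hinj, ?_⟩
        rw [Nat.card_eq_fintype_card (α := {q : Ω // q ≠ e}), Fintype.card_subtype_compl, Fintype.card_subtype_eq,
          ← Nat.card_eq_fintype_card]
        omega
      intro q hq
      obtain ⟨z, hz⟩ := hbij.2 ⟨q, hq⟩
      exact ⟨z, Subgroup.mem_centralizer_singleton_iff.1 z.2, congrArg Subtype.val hz⟩
    have huA : ∀ g : G, g • e = e → ∃ r ∈ A, g * u * g⁻¹ = u * r := by
      intro g hg
      obtain ⟨z, hzc, hz⟩ := htr (g⁻¹ • a) (fun e' => hea (by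
        rw [inv_smul_eq_iff, hg] at e'
        exact e'.symm))
      have hr : g * z ∈ A := ⟨show (g * z) • e = e by rw [mul_smul, hCu z hzc, hg],
        show (g * z) • a = a by rw [mul_smul, hz, smul_inv_smul]⟩
      refine ⟨(g * z)⁻¹ * (g * z)⁻¹, mul_mem (inv_mem hr) (inv_mem hr), ?_⟩
      have e1 : u * (g * z) * u = (g * z)⁻¹ := hui _ (hAB ▸ hr)
      calc g * u * g⁻¹ = (g * z) * (z⁻¹ * u) * g⁻¹ := by group
        _ = (g * z) * (u * z⁻¹) * g⁻¹ := by rw [hzc.inv_left.eq]
        _ = (g * z) * u * (g * z)⁻¹ := by group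
        _ = (u * u) * (g * z) * u * (g * z)⁻¹ := by rw [huu, one_mul]
        _ = u * (u * (g * z) * u) * (g * z)⁻¹ := by group
        _ = u * ((g * z)⁻¹ * (g * z)⁻¹) := by rw [e1]; group
    have hnorm : ∀ g : G, g • e = e → ∀ s ∈ A, g * s * g⁻¹ ∈ A := by
      intro g hg s hs
      obtain ⟨k, hk⟩ := hKodd.of_dvd_nat (Subgroup.card_dvd_of_le hAK)
      have hroot : s ^ (k + 1) * s ^ (k + 1) = s := by
        rw [← pow_add, show k + 1 + (k + 1) = Nat.card A + 1 by omega, pow_succ,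
          show s ^ Nat.card A = 1 from congrArg Subtype.val (pow_card_eq_one' (x := (⟨s, hs⟩ : A))), one_mul]
      set r := (s ^ (k + 1))⁻¹ with hrd
      have hrA : r ∈ A := inv_mem (pow_mem hs _)
      have e1 : r * u * r⁻¹ = u * s := by
        have e1 : u * r * u = r⁻¹ := hui r (hAB ▸ hrA)
        calc r * u * r⁻¹ = (u * u) * r * u * r⁻¹ := by rw [huu, one_mul]
          _ = u * (u * r * u) * r⁻¹ := by group
          _ = u * s := by rw [e1, hrd, inv_inv, mul_assoc, hroot]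
      obtain ⟨r1, hr1, e2⟩ := huA g hg
      obtain ⟨r2, hr2, e3⟩ := huA (g * r) (by rw [mul_smul, show r • e = e from hrA.1, hg])
      have : g * s * g⁻¹ = r1⁻¹ * r2 := by
        calc g * s * g⁻¹ = (g * u * g⁻¹)⁻¹ * (g * (u * s) * g⁻¹) := by group
          _ = (u * r1)⁻¹ * ((g * r) * u * (g * r)⁻¹) := by rw [e2, ← e1]; group
          _ = r1⁻¹ * r2 := by rw [e3]; group
      rw [this]
      exact mul_mem (inv_mem hr1) hr2
    refine hr₀1 (eq_of_smul_eq_smul (α := Ω) fun q => ?_)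
    rw [one_smul]
    by_cases hqe : q = e
    · rw [hqe]; exact he r₀ hr₀
    obtain ⟨k, hke, hka⟩ := h.exists_map hea (Ne.symm hqe)
    have := hnorm k⁻¹ (inv_smul_eq_iff.2 hke.symm) r₀ (hBA hr₀)
    rw [inv_inv] at this
    calc r₀ • q = k • ((k⁻¹ * r₀ * k) • a) := by rw [mul_smul, mul_smul, hka, smul_inv_smul]
      _ = q := by rw [this.2, hka]
  · -- a Sylow subgroup of the two-point stabiliser
    have hidx : B.relIndex A ≠ 1 := fun e' => hAB (le_antisymm (Subgroup.relIndex_eq_one.1 e') hBA)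
    obtain ⟨p, hp, hpd⟩ := Nat.exists_prime_and_dvd hidx
    haveI := Fact.mk hp
    obtain ⟨P₀⟩ : Nonempty (Sylow p A) := inferInstance
    haveI hP₀n : (P₀ : Subgroup A).Normal := ⟨fun x hx y => by
      rw [show y * x * y⁻¹ = x from Subtype.ext (by
        show (y : G) * x * (y : G)⁻¹ = x
        rw [(hAc y y.2 x x.2).eq, mul_inv_cancel_right])]
      exact hx⟩
    haveI : Unique (Sylow p A) := Sylow.unique_of_normal P₀ hP₀n
    set P : Subgroup G := (P₀ : Subgroup A).map A.subtype with hP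
    have hPA : P ≤ A := Subgroup.map_subtype_le _
    have hPpg : IsPGroup p P := P₀.isPGroup'.map _
    have hPB : ¬ P ≤ B := fun hle => P₀.not_dvd_index (hpd.trans
      (Subgroup.index_dvd_of_le (H := (P₀ : Subgroup A)) (K := B.subgroupOf A)
        fun x hx => hle ⟨x, hx, rfl⟩))
    have hPfix : ∀ z ∈ Γ, (∀ x ∈ P, x • z = z) → z = e ∨ z = a := by
      intro z hz hxz
      by_contra hne
      rw [not_or] at hne
      exact hPB fun x hx => hthree e a z he haΓ hz hea (Ne.symm hne.2) (Ne.symm hne.1) x (hPA hx).1 (hPA hx).2 (hxz x hx)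
    have hPmax : ∀ x ∈ A, IsPGroup p (Subgroup.zpowers x) → x ∈ P := by
      intro x hx hxp
      have hx' : IsPGroup p (Subgroup.zpowers (⟨x, hx⟩ : A)) := by
        obtain ⟨n, hn⟩ := IsPGroup.iff_card.1 hxp
        exact IsPGroup.of_card (n := n) (by rw [Nat.card_zpowers, Subgroup.orderOf_mk, ← hn, Nat.card_zpowers])
      obtain ⟨Q, hQ⟩ := hx'.exists_le_sylow
      rw [Subsingleton.elim Q P₀] at hQ
      exact ⟨_, hQ (Subgroup.mem_zpowers _), rfl⟩
    set KE := K ⊓ stabilizer G e with hKE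
    have hPKE : P ≤ KE := fun x hx => ⟨hAK (hPA hx), (hPA hx).1⟩
    have hfixa : ∀ g : G, g • e = e → (∀ z ∈ Γ, g • z ∈ Γ) → (∀ x ∈ P, g⁻¹ * x * g ∈ P) → g • a = a := by
      intro g hge hgΓ hgP
      rcases hPfix (g • a) (hgΓ a haΓ) (fun x hx => by
        have h1 : (g⁻¹ * x * g) • a = a := (hPA (hgP x hx)).2
        rwa [mul_smul, mul_smul, inv_smul_eq_iff] at h1) with h1 | h1
      · exact absurd (smul_left_cancel g (hge.trans h1.symm)) hea
      · exact h1
    set P' : Subgroup KE := P.subgroupOf KE with hP'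
    have hP'pg : IsPGroup p P' := hPpg.comap_of_injective _ KE.subtype_injective
    obtain ⟨Q, hQ⟩ := hP'pg.exists_le_sylow
    have hQP : (Q : Subgroup KE) = P' := by
      refine le_antisymm ?_ hQ
      by_contra hne
      set H : Subgroup (Q : Subgroup KE) := P'.subgroupOf (Q : Subgroup KE) with hH
      have hlt : H < ⊤ := lt_of_le_of_ne le_top fun e' => hne (Subgroup.subgroupOf_eq_top.1 e')
      haveI : Group.IsNilpotent (Q : Subgroup KE) := Q.isPGroup'.isNilpotent
      obtain ⟨g, hgN, hgH⟩ := SetLike.exists_of_lt (Group.normalizerCondition_of_isNilpotent H hlt)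
      refine hgH ?_
      have hgn : ∀ x ∈ P, (((g : KE) : G))⁻¹ * x * ((g : KE) : G) ∈ P := fun x hx => by
        have h1 := (Subgroup.mem_normalizer_iff.1 (inv_mem hgN)
          ⟨⟨x, hPKE hx⟩, hQ (by simpa [hP', Subgroup.mem_subgroupOf] using hx)⟩).1
          (by simpa [hH, hP', Subgroup.mem_subgroupOf] using hx)
        simpa [hH, hP', Subgroup.mem_subgroupOf] using h1
      have hga := hfixa _ (g : KE).2.2 (hKΓ _ (g : KE).2.1) hgn
      have hgA : ((g : KE) : G) ∈ A := ⟨(g : KE).2.2, hga⟩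
      have hgp : IsPGroup p (Subgroup.zpowers ((g : KE) : G)) := by
        obtain ⟨n, hn⟩ := IsPGroup.iff_orderOf.1 Q.isPGroup' g
        exact IsPGroup.of_card (n := n) (by rw [Nat.card_zpowers, Subgroup.orderOf_coe, Subgroup.orderOf_coe, hn])
      exact hPmax _ hgA hgp
    -- conjugation by `u`
    have huinv : u⁻¹ = u := inv_of_sq huu
    have huK : ∀ k ∈ KE, u * k * u ∈ KE := by
      rintro k ⟨hk1, hk2⟩
      refine ⟨Subgroup.mem_centralizer_iff.2 fun s hs => ?_, ?_⟩
      · have e1 := hui s hs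
        have e2 := Subgroup.mem_centralizer_iff.1 hk1 (s⁻¹) (inv_mem hs)
        calc s * (u * k * u) = u * (u * s * u) * k * u := by
              have : u * (u * s * u) = (u * u) * s * u := by group
              rw [this, huu]; group
          _ = u * (s⁻¹ * k) * u := by rw [e1]; group
          _ = u * k * (u * (u * s⁻¹ * u)) := by
              have : u * (u * s⁻¹ * u) = (u * u) * s⁻¹ * u := by group
              rw [e2, this, huu]; group
          _ = u * k * u * s := by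
              rw [hui s⁻¹ (inv_mem hs), inv_inv]; group
      · show (u * k * u) • e = e
        rw [mul_smul, mul_smul, hue, show k • e = e from hk2, hue]
    let σ : KE →* KE :=
      { toFun := fun k => ⟨u * k * u, huK k k.2⟩
        map_one' := Subtype.ext (by simpa using huu)
        map_mul' := fun k l => Subtype.ext (by
          show u * ((k : G) * l) * u = u * k * u * (u * l * u)
          rw [show u * (k : G) * u * (u * l * u) = u * k * (u * u) * l * u by group, huu]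
          group) }
    have hσinj : Function.Injective σ := fun k l e' => Subtype.ext (
      mul_left_cancel (mul_right_cancel (congrArg Subtype.val e' : u * (k : G) * u = u * (l : G) * u)))
    have hQ2 : Nat.card (P'.map σ) = p ^ (Nat.card KE).factorization p := by
      rw [Subgroup.card_map_of_injective hσinj, ← hQP, Q.card_eq_multiplicity]
    obtain ⟨k, hk⟩ := MulAction.exists_smul_eq KE (Sylow.ofCard _ hQ2) Q
    set v : G := (k : G) * u with hv
    have hvP : ∀ x ∈ P, v * x * v⁻¹ ∈ P := by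
      intro x hx
      have h1 : (⟨x, hPKE hx⟩ : KE) ∈ P' := hx
      have h2 : MulAut.conj k (σ ⟨x, hPKE hx⟩) ∈ (Q : Subgroup KE) := by
        rw [← hk, Sylow.coe_subgroup_smul]
        exact Subgroup.smul_mem_pointwise_smul _ _ _ ⟨_, h1, rfl⟩
      rw [hQP] at h2
      have h3 : (k : G) * (u * x * u) * (k : G)⁻¹ ∈ P := h2
      rw [hv, mul_inv_rev, huinv]
      simpa [mul_assoc] using h3
    have hvP' : ∀ x ∈ P, v⁻¹ * x * v ∈ P := by
      intro x hx
      let φ : P → P := fun y => ⟨v * y * v⁻¹, hvP y y.2⟩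
      have hφ : Function.Injective φ := fun y z e' => Subtype.ext
        (mul_left_cancel (mul_right_cancel (congrArg Subtype.val e')))
      obtain ⟨y, hy⟩ := Finite.surjective_of_injective hφ ⟨x, hx⟩
      rw [← show v * (y : G) * v⁻¹ = x from congrArg Subtype.val hy]
      simpa [mul_assoc] using y.2
    have hve : v • e = e := by rw [hv, mul_smul, hue]; exact k.2.2
    have hva : v • a = a := hfixa v hve
      (fun z hz => by rw [hv, mul_smul]; exact hKΓ k k.2.1 _ (huΓ z hz)) hvP'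
    have hvr : v * r₀ * v⁻¹ = r₀⁻¹ := by
      have e1 := hui r₀ hr₀
      have e2 := Subgroup.mem_centralizer_iff.1 k.2.1 r₀⁻¹ (inv_mem hr₀)
      calc v * r₀ * v⁻¹ = (k : G) * (u * r₀ * u) * (k : G)⁻¹ := by rw [hv, mul_inv_rev, huinv]; group
        _ = r₀⁻¹ := by rw [e1, ← e2, mul_inv_cancel_right]
    rcases Nat.even_or_odd (orderOf v) with ⟨j, hj⟩ | ⟨j, hj⟩
    · have hjpos : 0 < j := by have := orderOf_pos v; omega
      refine hea (h.fixes_le_one hi (s := v ^ j) (fun e' => ?_) (by rw [← pow_add, ← hj, pow_orderOf_eq_one])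
        (pow_mem (mem_stabilizer_iff.2 hve : v ∈ stabilizer G e) j)
        (pow_mem (mem_stabilizer_iff.2 hva : v ∈ stabilizer G a) j))
      have := Nat.le_of_dvd hjpos (orderOf_dvd_of_pow_eq_one e')
      omega
    · refine hr₀i ?_
      have e2 : Commute (v * v) r₀ := by
        show v * v * r₀ = r₀ * (v * v)
        have e1 : v * r₀⁻¹ * v⁻¹ = r₀ := by
          rw [show v * r₀⁻¹ * v⁻¹ = (v * r₀ * v⁻¹)⁻¹ by group, hvr, inv_inv]
        calc v * v * r₀ = v * (v * r₀ * v⁻¹) * v := by group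
          _ = (v * r₀⁻¹ * v⁻¹) * (v * v) := by rw [hvr]; group
          _ = r₀ * (v * v) := by rw [e1]
      have e3 : Commute v r₀ := by
        have e4 : v = (v * v) ^ (j + 1) := by
          rw [← pow_two, ← pow_mul, show 2 * (j + 1) = orderOf v + 1 by omega, pow_succ, pow_orderOf_eq_one, one_mul]
        rw [e4]; exact e2.pow_left _
      rw [← hvr, e3.eq, mul_inv_cancel_right]

theorem Ctx.threePoint (h : Ctx G Ω t i) : Zassenhaus.ThreePoint G Ω := by
  rcases (show i ≤ 1 ∨ i = 2 by have := h.le_two; omega) with hi | hi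
  · exact h.threePoint_le_one hi
  · exact h.threePoint_two hi

end Cfsg.Agent.Lie.InvFixity
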