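import Cfsg.Agent.Lib.Lie.InvFixity.Basic

/-!
# Involutions whose centralizers have constant fixity: at most two fixed points
-/

set_option autoImplicit false
set_option linter.unusedSectionVars false
set_option linter.style.haveILetI false

open MulAction

namespace Cfsg.Agent.Lie.InvFixity

universe u v

variable {G : Type u} {Ω : Type v} [Group G] [MulAction G Ω] [Finite Ω] [Finite G] {t : G} {i : ℕ}

/-- If the elements of odd order fix an invariant set of odd size pointwise, some point is fixed. -/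
theorem fixed_of_odd (H : Subgroup G) (S : Set Ω) (hS : ∀ g ∈ H, ∀ x ∈ S, g • x ∈ S)
    (hodd : ∀ g ∈ H, Odd (orderOf g) → ∀ x ∈ S, g • x = x) (hcard : Odd S.ncard) :
    ∃ x ∈ S, ∀ g ∈ H, g • x = x := by
  classical
  haveI : Fact (Nat.Prime 2) := ⟨Nat.prime_two⟩
  letI : MulAction H S :=
    { smul := fun g x => ⟨(g : G) • (x : Ω), hS g g.2 x x.2⟩
      one_smul := fun x => Subtype.ext (one_smul G (x : Ω))
      mul_smul := fun g g' x => Subtype.ext (mul_smul (g : G) g' (x : Ω)) }
  set P := (MulAction.toPermHom H S).range with hP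
  have hp : IsPGroup 2 P := by
    rintro ⟨_, g, rfl⟩
    obtain ⟨k, m, hm, hgm⟩ := Nat.exists_eq_pow_mul_and_not_dvd (orderOf_pos g).ne' 2 (by norm_num)
    refine ⟨k, Subtype.ext (Equiv.ext fun x => ?_)⟩
    show ((MulAction.toPermHom H S g) ^ 2 ^ k) x = x
    rw [← map_pow]
    refine Subtype.ext (hodd _ (g ^ 2 ^ k).2 ?_ _ x.2)
    rw [Subgroup.coe_pow, ← Subgroup.coe_pow, Subgroup.orderOf_coe, orderOf_pow' _ (pow_ne_zero _ two_ne_zero),
      hgm, Nat.gcd_mul_right_left, Nat.mul_div_cancel_left _ (Nat.two_pow_pos k)]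
    exact Nat.not_even_iff_odd.1 fun he => hm (even_iff_two_dvd.1 he)
  have hmod := hp.card_modEq_card_fixedPoints (α := S)
  have hne : Nat.card (fixedPoints P S) ≠ 0 := by
    intro h0
    rw [h0, Nat.card_coe_set_eq, Nat.ModEq, Nat.odd_iff.1 hcard] at hmod
    omega
  obtain ⟨⟨x, hx⟩, -⟩ := Nat.card_ne_zero.1 hne
  exact ⟨x, x.2, fun g hg => congrArg Subtype.val (hx ⟨_, ⟨⟨g, hg⟩, rfl⟩⟩)⟩

/-- The ordered pairs of distinct points. -/
abbrev Pairs (Ω : Type v) := {p : Ω × Ω // p.1 ≠ p.2}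

theorem card_pairs (α : Type v) [Finite α] : Nat.card (Pairs α) = Nat.card α * (Nat.card α - 1) := by
  classical
  haveI := Fintype.ofFinite α
  rw [Nat.card_congr (Equiv.subtypeProdEquivSigmaSubtype fun a b : α => a ≠ b), Nat.card_sigma,
    Finset.sum_congr rfl (g := fun _ => Nat.card α - 1) fun a _ => ?_, Finset.sum_const, Finset.card_univ,
    smul_eq_mul, ← Nat.card_eq_fintype_card]
  rw [Nat.card_congr (Equiv.subtypeEquivRight fun b : α => (ne_comm : a ≠ b ↔ b ≠ a)),
    Nat.card_eq_fintype_card, Nat.card_eq_fintype_card, Fintype.card_subtype_compl, Fintype.card_subtype_eq]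

theorem Ctx.card_group (h : Ctx G Ω t i) {a b : Ω} (hab : a ≠ b) :
    Nat.card G = Nat.card Ω * (Nat.card Ω - 1) * Nat.card ↥(stabilizer G a ⊓ stabilizer G b) := by
  classical
  let φ : G → Pairs Ω := fun g => ⟨(g • a, g • b), fun e => hab (smul_left_cancel g e)⟩
  haveI := Fintype.ofFinite (Pairs Ω)
  rw [Nat.card_congr (Equiv.sigmaFiberEquiv φ).symm, Nat.card_sigma,
    Finset.sum_congr rfl (g := fun _ => Nat.card ↥(stabilizer G a ⊓ stabilizer G b)) fun p _ => ?_,
    Finset.sum_const, Finset.card_univ, smul_eq_mul, ← Nat.card_eq_fintype_card, card_pairs]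
  obtain ⟨k, hk1, hk2⟩ := h.exists_map hab p.2
  refine Nat.card_congr ((Equiv.mulLeft k⁻¹).subtypeEquiv fun g => ?_)
  show φ g = p ↔ k⁻¹ * g ∈ stabilizer G a ⊓ stabilizer G b
  rw [Subgroup.mem_inf, mem_stabilizer_iff, mem_stabilizer_iff, mul_smul, mul_smul, inv_smul_eq_iff,
    inv_smul_eq_iff, hk1, hk2, Subtype.ext_iff, Prod.ext_iff]

theorem Ctx.le_two (h : Ctx G Ω t i) : i ≤ 2 := by
  classical
  by_contra hi
  push Not at hi
  haveI := h.faithful
  set F : Set Ω := {x | t • x = x} with hF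
  have hFc : F.ncard = i := by rw [← Nat.card_coe_set_eq, ← h.fix]; rfl
  set C := Subgroup.centralizer ({t} : Set G) with hC
  have memC : ∀ {g : G}, g ∈ C ↔ Commute g t := fun {g} => Subgroup.mem_centralizer_singleton_iff
  have htinv : t⁻¹ = t := inv_of_sq h.sq
  have hCF : ∀ g ∈ C, ∀ x ∈ F, g • x ∈ F := fun g hg x hx => by
    show t • g • x = g • x
    rw [smul_smul, ← (memC.1 hg).eq, mul_smul, show t • x = x from hx]
  have hpair : ∀ {x y : Ω}, x ∈ F → y ∈ F → x ≠ y → ∀ {r : G}, r • x = x → r • y = y → r ∈ C :=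
    fun hx hy hxy r h1 h2 => memC.2 (h.pair_comm hxy h1 h2 hx hy)
  have hswap : ∀ {x y : Ω}, x ∈ F → y ∈ F → x ≠ y → ∃ s ∈ C, s • x = y ∧ s • y = x := fun {x y} hx hy hxy => by
    obtain ⟨s, h1, h2⟩ := h.exists_swap hxy
    have hs := h.swap_sq hxy h1 h2
    refine ⟨s, memC.2 (commute_of_sq hs h.sq ?_), h1, h2⟩
    have e := h.swap_inverts hxy h1 h2 hx hy
    calc (s * t) * (s * t) = s * t * s * t := by group
      _ = 1 := by rw [e]; group
  have hoddF : ∀ g ∈ C, Odd (orderOf g) → ∀ x ∈ F, g • x = x := fun g hg ho x hx =>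
    h.odd_cent_fix h.ne h.sq (memC.1 hg) ho hx
  -- the number of fixed points is even
  have heven : ¬ Odd i := by
    intro ho
    obtain ⟨x, hx, hfix⟩ := fixed_of_odd C F hCF hoddF (hFc ▸ ho)
    obtain ⟨y, hy, hyx⟩ := Set.exists_ne_of_one_lt_ncard (s := F) (by omega) x
    obtain ⟨s, hs, hsx, -⟩ := hswap hx hy hyx.symm
    exact hyx (by rw [← hsx]; exact hfix s hs)
  -- elements of `C` fixing one fixed point of `t` fix all
  have hall : ∀ g ∈ C, ∀ x ∈ F, g • x = x → ∀ z ∈ F, g • z = z := by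
    intro g hg x hx hgx z hz
    by_cases hzx : z = x
    · rw [hzx]; exact hgx
    set H := C ⊓ stabilizer G x with hH
    obtain ⟨y, ⟨hy, hyx⟩, hfix⟩ := fixed_of_odd H (F \ {x})
      (fun k hk w hw => ⟨hCF k hk.1 w hw.1, fun e => hw.2 (smul_left_cancel k ((Set.mem_singleton_iff.1 e).trans hk.2.symm))⟩)
      (fun k hk ho w hw => hoddF k hk.1 ho w hw.1)
      (by
        rw [Set.ncard_sdiff_singleton_of_mem hx, hFc]
        rcases Nat.even_or_odd i with ⟨j, hj⟩ | ho
        · exact ⟨j - 1, by omega⟩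
        · exact absurd ho heven)
    rw [Set.mem_singleton_iff] at hyx
    have e1 : H = stabilizer G x ⊓ stabilizer G y :=
      le_antisymm (fun k hk => ⟨hk.2, hfix k hk⟩) fun k hk => ⟨hpair hx hy (Ne.symm hyx) hk.1 hk.2, hk.1⟩
    have e2 : stabilizer G x ⊓ stabilizer G z = H := Subgroup.eq_of_le_of_card_ge
      (fun k hk => ⟨hpair hx hz (Ne.symm hzx) hk.1 hk.2, hk.1⟩)
      (by rw [e1, h.card_pair_eq (Ne.symm hzx) (Ne.symm hyx)])
    exact (e2.symm ▸ (⟨hg, hgx⟩ : g ∈ H) : g ∈ stabilizer G x ⊓ stabilizer G z).2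
  obtain ⟨x, hx⟩ : F.Nonempty := Set.nonempty_of_ncard_ne_zero (by omega)
  obtain ⟨y, hy, hyx⟩ := Set.exists_ne_of_one_lt_ncard (s := F) (by omega) x
  obtain ⟨z, hz, hzx, hzy⟩ : ∃ z ∈ F, z ≠ x ∧ z ≠ y := by
    obtain ⟨z, hz, hz'⟩ := Set.exists_mem_notMem_of_ncard_lt_ncard (s := {x, y}) (t := F)
      (by rw [Set.ncard_pair hyx.symm]; omega)
    simp only [Set.mem_insert_iff, Set.mem_singleton_iff, not_or] at hz'
    exact ⟨z, hz, hz'⟩
  -- elements moving `x` are involutions
  have hmove : ∀ g ∈ C, g • x ≠ x → g * g = 1 ∧ g • g • x = x := by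
    intro g hg hgx
    obtain ⟨s, hs, h1, h2⟩ := hswap hx (hCF g hg x hx) (Ne.symm hgx)
    have e : (s * g) • (g • x) = g • x := hall _ (mul_mem hs hg) x hx (by rw [mul_smul, h2]) _ (hCF g hg x hx)
    have hb : g • g • x = x := by
      rw [mul_smul] at e
      exact smul_left_cancel s (e.trans h1.symm)
    exact ⟨h.swap_sq (Ne.symm hgx) rfl hb, hb⟩
  -- the two-point stabiliser has exponent two
  have hexp : ∀ {r : G}, r • x = x → r • y = y → r * r = 1 := by
    intro r r1 r2
    have hrC := hpair hx hy hyx.symm r1 r2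
    have hrall := hall r hrC x hx r1
    obtain ⟨u, huC, u1, u2⟩ := hswap hx hy hyx.symm
    obtain ⟨w, hwC, w1, w2⟩ := hswap hx hz hzx.symm
    have hm : (u * w) • x ≠ x := by
      rw [mul_smul, w1]
      intro e
      exact hzy (smul_left_cancel u (e.trans u2.symm))
    obtain ⟨hsq, hb⟩ := hmove _ (mul_mem huC hwC) hm
    have e1 := h.swap_inverts (Ne.symm hm) rfl hb r1 (hrall _ (hCF _ (mul_mem huC hwC) x hx))
    have e2 := h.swap_inverts hzx.symm w1 w2 r1 (hrall z hz)
    have e3 := h.swap_inverts hyx.symm u1 u2 (r := r⁻¹) (inv_smul_eq_iff.2 r1.symm) (inv_smul_eq_iff.2 r2.symm)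
    have hwu : w * u = u * w := by
      rw [← inv_of_sq hsq, mul_inv_rev, inv_of_sq (h.swap_sq hzx.symm w1 w2), inv_of_sq (h.swap_sq hyx.symm u1 u2)]
    have : u * w * r * (u * w) = r := by
      calc u * w * r * (u * w) = u * w * r * (w * u) := by rw [hwu]
        _ = u * (w * r * w) * u := by group
        _ = r := by rw [e2, e3, inv_inv]
    exact eq_inv_iff_mul_eq_one.1 (this.symm.trans e1)
  have hCsq : ∀ g ∈ C, g * g = 1 := fun g hg => by
    by_cases hgx : g • x = x
    · exact hexp hgx (hall g hg x hx hgx y hy)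
    · exact (hmove g hg hgx).1
  -- `C` is the centralizer of each of its involutions
  have hTI : ∀ s ∈ C, s ≠ 1 → Subgroup.centralizer ({s} : Set G) = C := by
    intro s hs hs1
    have hle : C ≤ Subgroup.centralizer {s} := fun g hg =>
      Subgroup.mem_centralizer_singleton_iff.2 (commute_of_sq (hCsq g hg) (hCsq s hs) (hCsq _ (mul_mem hg hs)))
    have h1 := h.card_cent hs1 (hCsq s hs)
    have h2 := (h.count).1
    rw [← hC] at h2
    exact (Subgroup.eq_of_le_of_card_ge hle (by omega)).symm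
  set d := Nat.card ↥(stabilizer G x ⊓ stabilizer G y) with hd
  -- the order of `C`
  have hcd : Nat.card C = i * d := by
    have e := (stabilizer C x).index_mul_card
    have horb : MulAction.orbit C x = F := by
      ext w
      constructor
      · rintro ⟨g, rfl⟩
        exact hCF g g.2 x hx
      · intro hw
        by_cases hwx : w = x
        · subst hwx; exact mem_orbit_self w
        · obtain ⟨s, hs, h1, -⟩ := hswap hx hw (Ne.symm hwx)
          exact ⟨⟨s, hs⟩, h1⟩
    have hst : Nat.card (stabilizer C x) = d := by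
      refine Nat.card_congr
        { toFun := fun g => ⟨((g : C) : G), g.2, hall _ (g : C).2 x hx g.2 y hy⟩
          invFun := fun g => ⟨⟨(g : G), hpair hx hy hyx.symm g.2.1 g.2.2⟩, g.2.1⟩
          left_inv := fun g => Subtype.ext (Subtype.ext rfl)
          right_inv := fun g => Subtype.ext rfl }
    rw [index_stabilizer, horb, hFc, hst] at e
    exact e.symm
  set n := Nat.card Ω with hn
  set m := C.index with hm
  have hG : m * Nat.card C = Nat.card G := Subgroup.index_mul_card _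
  have hGn : Nat.card G = n * (n - 1) * d := h.card_group hyx.symm
  have hni : Nat.card C + i = n := (h.count).1
  -- counting involutions with two marked fixed points
  have hcount : n * (n - 1) * (d - 1) = m * (i * (i - 1)) := by
    let I := {s : G // IsConj t s}
    let A := Σ p : Pairs Ω, {r : ↥(stabilizer G p.1.1 ⊓ stabilizer G p.1.2) // r ≠ 1}
    let B := Σ s : I, Pairs {w : Ω // (s : G) • w = w}
    have hpp : ∀ p : Pairs Ω, ∀ r : ↥(stabilizer G p.1.1 ⊓ stabilizer G p.1.2), r ≠ 1 → IsConj t (r : G) := by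
      intro p r hr
      refine h.invol_isConj (fun e => hr (Subtype.ext e)) ?_
      obtain ⟨k, hk1, hk2⟩ := h.exists_map hyx.symm p.2
      have h1 : (k⁻¹ * r * k) • x = x := by rw [mul_smul, mul_smul, hk1, r.2.1, ← hk1, inv_smul_smul]
      have h2 : (k⁻¹ * r * k) • y = y := by rw [mul_smul, mul_smul, hk2, r.2.2, ← hk2, inv_smul_smul]
      have h3 := hexp h1 h2
      calc (r : G) * r = k * (k⁻¹ * r * k * (k⁻¹ * r * k)) * k⁻¹ := by group
        _ = 1 := by rw [h3]; group
    let e : A ≃ B :=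
      { toFun := fun q => ⟨⟨(q.2.1 : G), hpp q.1 q.2.1 q.2.2⟩,
          ⟨(⟨q.1.1.1, q.2.1.2.1⟩, ⟨q.1.1.2, q.2.1.2.2⟩), fun e' => q.1.2 (congrArg Subtype.val e')⟩⟩
        invFun := fun q => ⟨⟨(q.2.1.1.1, q.2.1.2.1), fun e' => q.2.2 (Subtype.ext e')⟩,
          ⟨⟨(q.1 : G), q.2.1.1.2, q.2.1.2.2⟩, fun e' =>
            (h.sq_of_isConj q.1.2).2 (congrArg Subtype.val e')⟩⟩
        left_inv := fun q => rfl
        right_inv := fun q => rfl }
    have hA : Nat.card A = n * (n - 1) * (d - 1) := by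
      haveI := Fintype.ofFinite (Pairs Ω)
      rw [Nat.card_sigma, Finset.sum_congr rfl (g := fun _ => d - 1) fun p _ => ?_, Finset.sum_const,
        Finset.card_univ, smul_eq_mul, ← Nat.card_eq_fintype_card, card_pairs]
      haveI := Fintype.ofFinite ↥(stabilizer G p.1.1 ⊓ stabilizer G p.1.2)
      rw [hd, ← h.card_pair_eq hyx.symm p.2, Nat.card_eq_fintype_card, Nat.card_eq_fintype_card,
        Fintype.card_subtype_compl, Fintype.card_subtype_eq]
    have hB : Nat.card B = m * (i * (i - 1)) := by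
      haveI := Fintype.ofFinite I
      rw [Nat.card_sigma, Finset.sum_congr rfl (g := fun _ => i * (i - 1)) fun s _ => ?_, Finset.sum_const,
        Finset.card_univ, smul_eq_mul, ← Nat.card_eq_fintype_card,
        Cfsg.Agent.Char.card_conjClass_eq_index]
      obtain ⟨k, hk⟩ := isConj_iff.1 s.2
      rw [card_pairs, show Nat.card {w : Ω // (s : G) • w = w} = nfix Ω (s : G) from rfl, ← hk, nfix_conj, h.fix]
    rw [← hA, ← hB, Nat.card_congr e]
  have hd0 : 0 < d := Nat.card_pos
  have hn1 : 2 ≤ n := by have := Nat.card_pos (α := C); omega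
  have hpos : 0 < n * (n - 1) := Nat.mul_pos (by omega) (by omega)
  have hmi : m * i = n * (n - 1) :=
    Nat.eq_of_mul_eq_mul_right hd0 (by rw [mul_assoc, ← hcd, hG, hGn])
  have hdi : d = i := by
    have : n * (n - 1) * (d - 1) = n * (n - 1) * (i - 1) := by
      rw [hcount, ← mul_assoc, hmi]
    have := Nat.eq_of_mul_eq_mul_left hpos this
    omega
  -- the normaliser of `C` is transitive on its involutions
  haveI := Fintype.ofFinite {s : C // s ≠ 1}
  have hN : Nat.card ↥(Subgroup.normalizer (C : Set G)) = Nat.card {s : C // s ≠ 1} * Nat.card C := by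
    have htC : t ∈ C := memC.2 (Commute.refl t)
    let φ : ↥(Subgroup.normalizer (C : Set G)) → {s : C // s ≠ 1} := fun g =>
      ⟨⟨(g : G) * t * (g : G)⁻¹, (Subgroup.mem_normalizer_iff.1 g.2 t).1 htC⟩, fun e =>
        h.ne (conj_eq_one_iff.1 (congrArg Subtype.val e))⟩
    rw [Nat.card_congr (Equiv.sigmaFiberEquiv φ).symm, Nat.card_sigma,
      Finset.sum_congr rfl (g := fun _ => Nat.card C) fun s _ => ?_, Finset.sum_const, Finset.card_univ,
      smul_eq_mul, ← Nat.card_eq_fintype_card]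
    obtain ⟨k, hk⟩ := isConj_iff.1 (h.invol_isConj (s := ((s : C) : G)) (fun e => s.2 (Subtype.ext e))
      (hCsq _ (s : C).2))
    have hks : Subgroup.centralizer ({((s : C) : G)} : Set G) = C :=
      hTI _ (s : C).2 fun e => s.2 (Subtype.ext e)
    have hkN : k ∈ Subgroup.normalizer (C : Set G) := by
      refine Subgroup.mem_normalizer_iff.2 fun w => ?_
      conv_rhs => rw [← hks]
      rw [memC, Subgroup.mem_centralizer_singleton_iff, ← hk]
      constructor <;> intro e
      · calc k * w * k⁻¹ * (k * t * k⁻¹) = k * (w * t) * k⁻¹ := by group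
          _ = k * (t * w) * k⁻¹ := by rw [e.eq]
          _ = k * t * k⁻¹ * (k * w * k⁻¹) := by group
      · show w * t = t * w
        calc w * t = k⁻¹ * (k * w * k⁻¹ * (k * t * k⁻¹)) * k := by group
          _ = k⁻¹ * (k * t * k⁻¹ * (k * w * k⁻¹)) * k := by rw [e]
          _ = t * w := by group
    refine Nat.card_congr
      { toFun := fun g => ⟨k⁻¹ * ((g : ↥(Subgroup.normalizer (C : Set G))) : G), memC.2 ?_⟩
        invFun := fun w => ⟨⟨k * (w : G), mul_mem hkN (Subgroup.le_normalizer w.2)⟩,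
          Subtype.ext (Subtype.ext ?_)⟩
        left_inv := fun g => Subtype.ext (Subtype.ext (mul_inv_cancel_left _ _))
        right_inv := fun w => Subtype.ext (inv_mul_cancel_left _ _) }
    · have e : ((g : ↥(Subgroup.normalizer (C : Set G))) : G) * t *
          ((g : ↥(Subgroup.normalizer (C : Set G))) : G)⁻¹ = k * t * k⁻¹ := by
        rw [hk]; exact congrArg (fun q : {s : C // s ≠ 1} => ((q : C) : G)) g.2
      generalize ((g : ↥(Subgroup.normalizer (C : Set G))) : G) = γ at e ⊢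
      show k⁻¹ * γ * t = t * (k⁻¹ * γ)
      calc k⁻¹ * γ * t = k⁻¹ * (γ * t * γ⁻¹) * γ := by group
        _ = t * (k⁻¹ * γ) := by rw [e]; group
    · show k * (w : G) * t * (k * (w : G))⁻¹ = ((s : C) : G)
      rw [← hk, mul_inv_rev, mul_assoc k (w : G) t, (memC.1 w.2).eq]
      group
  have hdvd : (Nat.card C - 1) * Nat.card C ∣ m * Nat.card C := by
    rw [hG]
    refine (dvd_of_eq ?_).trans (Subgroup.card_subgroup_dvd_card (Subgroup.normalizer (C : Set G)))
    haveI := Fintype.ofFinite C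
    rw [hN, Nat.card_eq_fintype_card (α := {s : C // s ≠ 1}), Fintype.card_subtype_compl,
      Fintype.card_subtype_eq, ← Nat.card_eq_fintype_card]
  have hdvd' : Nat.card C - 1 ∣ m := Nat.dvd_of_mul_dvd_mul_right Nat.card_pos hdvd
  rw [hcd, hdi] at hdvd' hni
  have hnum : i * i - 1 ∣ (i + 1) * (i * i + i - 1) := by
    have hm' : m = (i + 1) * (i * i + i - 1) := by
      refine Nat.eq_of_mul_eq_mul_right (show 0 < i by omega) ?_
      rw [hmi, ← hni]
      ring_nf
    exact hm' ▸ hdvd'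
  have hfac : i * i - 1 = (i + 1) * (i - 1) := by
    obtain ⟨j, rfl⟩ : ∃ j, i = j + 1 := ⟨i - 1, by omega⟩
    rw [Nat.add_sub_cancel]
    have : (j + 1) * (j + 1) = (j + 1 + 1) * j + 1 := by ring
    omega
  rw [hfac] at hnum
  have h1 := Nat.dvd_of_mul_dvd_mul_left (by omega) hnum
  have h2 : i * i + i - 1 = (i - 1) * (i + 2) + 1 := by
    obtain ⟨j, rfl⟩ : ∃ j, i = j + 1 := ⟨i - 1, by omega⟩
    rw [Nat.add_sub_cancel]
    have : (j + 1) * (j + 1) + (j + 1) = j * (j + 1 + 2) + 2 := by ring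
    omega
  rw [h2, Nat.dvd_add_right (dvd_mul_right _ _), Nat.dvd_one] at h1
  omega

end Cfsg.Agent.Lie.InvFixity
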